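import Cfsg.Agent.Helper17.ONS2TC.Lemmas

set_option autoImplicit false
set_option linter.all false

noncomputable section

namespace Cfsg.Agent.Helper17.ONS2TC

theorem F1 : act 0 n0 = n0 := d10_0 B0 
def n1 : Q := act 1 n0
theorem D1 : act 1 n0 = n1 := rfl
def n2 : Q := act 2 n0
theorem D2 : act 2 n0 = n2 := rfl
theorem F2 : act 0 n2 = n2 := d1_1 D2 (iv D2) F1
def n3 : Q := act 3 n0
theorem D3 : act 3 n0 = n3 := rfl
theorem F3 : act 0 n3 = n3 := d2_1 D3 (iv D3) F1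
def n4 : Q := act 4 n0
theorem D4 : act 4 n0 = n4 := rfl
theorem F4 : act 0 n4 = n4 := d3_1 D4 (iv D4) F1
def n5 : Q := act 0 n1
theorem D5 : act 0 n1 = n5 := rfl
theorem F5 : act 1 n5 = n5 := d0_2 D1 D5 (iv D5) (iv D1) F1
def n6 : Q := act 2 n1
theorem D6 : act 2 n1 = n6 := rfl
def n7 : Q := act 3 n1
theorem D7 : act 3 n1 = n7 := rfl
theorem F6 : act 1 n7 = n3 := d5_1 D7 (iv D3) D1
def n8 : Q := act 4 n1
theorem D8 : act 4 n1 = n8 := rfl
theorem F7 : act 1 n8 = n4 := d6_1 D8 (iv D4) D1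
def n9 : Q := act 1 n2
theorem D9 : act 1 n2 = n9 := rfl
def n10 : Q := act 3 n2
theorem D10 : act 3 n2 = n10 := rfl
theorem F8 : act 0 n10 = n10 := d2_1 D10 (iv D10) F2
theorem F9 : act 2 n10 = n3 := d7_1 D10 (iv D3) D2
def n11 : Q := act 4 n2
theorem D11 : act 4 n2 = n11 := rfl
theorem F10 : act 0 n11 = n11 := d3_1 D11 (iv D11) F2
theorem F11 : act 2 n11 = n4 := d8_1 D11 (iv D4) D2
def n12 : Q := act 4 n3
theorem D12 : act 4 n3 = n12 := rfl
theorem F12 : act 0 n12 = n12 := d3_1 D12 (iv D12) F3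
def n13 : Q := act 3 n4
theorem D13 : act 3 n4 = n13 := rfl
theorem F13 : act 0 n13 = n13 := d2_1 D13 (iv D13) F4
def n14 : Q := act 2 n5
theorem D14 : act 2 n5 = n14 := rfl
theorem F14 : act 0 n14 = n6 := d1_1 D14 (iv D6) D5
def n15 : Q := act 3 n5
theorem D15 : act 3 n5 = n15 := rfl
theorem F15 : act 0 n15 = n7 := d2_1 D15 (iv D7) D5
theorem F16 : act 1 n15 = n15 := d5_1 D15 (iv D15) F5
def n16 : Q := act 4 n5
theorem D16 : act 4 n5 = n16 := rfl
theorem F17 : act 0 n16 = n8 := d3_1 D16 (iv D8) D5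
theorem F18 : act 1 n16 = n16 := d6_1 D16 (iv D16) F5
def n17 : Q := act 1 n6
theorem D17 : act 1 n6 = n17 := rfl
theorem F19 : act 2 n17 = n9 := d4_2 D6 D17 (iv D9) (iv D2) D1
def n18 : Q := act 3 n6
theorem D18 : act 3 n6 = n18 := rfl
theorem F20 : act 2 n18 = n7 := d7_1 D18 (iv D7) D6
def n19 : Q := act 4 n6
theorem D19 : act 4 n6 = n19 := rfl
theorem F21 : act 2 n19 = n8 := d8_1 D19 (iv D8) D6
def n20 : Q := act 4 n7
theorem D20 : act 4 n7 = n20 := rfl
theorem F22 : act 1 n20 = n12 := d6_1 D20 (iv D12) (iv F6)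
def n21 : Q := act 3 n8
theorem D21 : act 3 n8 = n21 := rfl
theorem F23 : act 1 n21 = n13 := d5_1 D21 (iv D13) (iv F7)
def n22 : Q := act 0 n9
theorem D22 : act 0 n9 = n22 := rfl
theorem F24 : act 1 n22 = n22 := d0_2 D9 D22 (iv D22) (iv D9) F2
def n23 : Q := act 3 n9
theorem D23 : act 3 n9 = n23 := rfl
theorem F25 : act 1 n23 = n10 := d5_1 D23 (iv D10) D9
def n24 : Q := act 4 n9
theorem D24 : act 4 n9 = n24 := rfl
theorem F26 : act 1 n24 = n11 := d6_1 D24 (iv D11) D9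
def n25 : Q := act 4 n10
theorem D25 : act 4 n10 = n25 := rfl
theorem F27 : act 0 n25 = n25 := d3_1 D25 (iv D25) F8
theorem F28 : act 2 n25 = n12 := d8_1 D25 (iv D12) (iv F9)
def n26 : Q := act 3 n11
theorem D26 : act 3 n11 = n26 := rfl
theorem F29 : act 0 n26 = n26 := d2_1 D26 (iv D26) F10
theorem F30 : act 2 n26 = n13 := d7_1 D26 (iv D13) (iv F11)
def n27 : Q := act 3 n12
theorem D27 : act 3 n12 = n27 := rfl
theorem F31 : act 0 n27 = n27 := d2_1 D27 (iv D27) F12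
theorem F32 : act 4 n27 = n13 := d9_2 D12 D27 (iv D13) (iv D4) D3
def n28 : Q := act 1 n14
theorem D28 : act 1 n14 = n28 := rfl
theorem F33 : act 2 n28 = n28 := d4_2 D14 D28 (iv D28) (iv D14) F5
def n29 : Q := act 3 n14
theorem D29 : act 3 n14 = n29 := rfl
theorem F34 : act 0 n29 = n18 := d2_1 D29 (iv D18) (iv F14)
theorem F35 : act 2 n29 = n15 := d7_1 D29 (iv D15) D14
def n30 : Q := act 4 n14
theorem D30 : act 4 n14 = n30 := rfl
theorem F36 : act 0 n30 = n19 := d3_1 D30 (iv D19) (iv F14)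
theorem F37 : act 2 n30 = n16 := d8_1 D30 (iv D16) D14
def n31 : Q := act 4 n15
theorem D31 : act 4 n15 = n31 := rfl
theorem F38 : act 0 n31 = n20 := d3_1 D31 (iv D20) (iv F15)
theorem F39 : act 1 n31 = n31 := d6_1 D31 (iv D31) F16
def n32 : Q := act 3 n16
theorem D32 : act 3 n16 = n32 := rfl
theorem F40 : act 0 n32 = n21 := d2_1 D32 (iv D21) (iv F17)
theorem F41 : act 1 n32 = n32 := d5_1 D32 (iv D32) F18
def n33 : Q := act 0 n17
theorem D33 : act 0 n17 = n33 := rfl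
theorem F42 : act 2 n33 = n22 := d1_2 (iv F19) D33 (iv D22)
def n34 : Q := act 3 n17
theorem D34 : act 3 n17 = n34 := rfl
theorem F43 : act 1 n34 = n18 := d5_1 D34 (iv D18) D17
theorem F44 : act 2 n34 = n23 := d7_1 D34 (iv D23) (iv F19)
def n35 : Q := act 4 n17
theorem D35 : act 4 n17 = n35 := rfl
theorem F45 : act 1 n35 = n19 := d6_1 D35 (iv D19) D17
theorem F46 : act 2 n35 = n24 := d8_1 D35 (iv D24) (iv F19)
def n36 : Q := act 4 n18
theorem D36 : act 4 n18 = n36 := rfl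
theorem F47 : act 2 n36 = n20 := d8_1 D36 (iv D20) (iv F20)
def n37 : Q := act 3 n19
theorem D37 : act 3 n19 = n37 := rfl
theorem F48 : act 2 n37 = n21 := d7_1 D37 (iv D21) (iv F21)
def n38 : Q := act 3 n20
theorem D38 : act 3 n20 = n38 := rfl
theorem F49 : act 1 n38 = n27 := d5_1 D38 (iv D27) (iv F22)
theorem F50 : act 4 n38 = n21 := d9_2 D20 D38 (iv D21) (iv D8) D7
def n39 : Q := act 3 n22
theorem D39 : act 3 n22 = n39 := rfl
theorem F51 : act 0 n39 = n23 := d2_1 D39 (iv D23) D22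
theorem F52 : act 1 n39 = n39 := d5_1 D39 (iv D39) F24
def n40 : Q := act 4 n22
theorem D40 : act 4 n22 = n40 := rfl
theorem F53 : act 0 n40 = n24 := d3_1 D40 (iv D24) D22
theorem F54 : act 1 n40 = n40 := d6_1 D40 (iv D40) F24
def n41 : Q := act 4 n23
theorem D41 : act 4 n23 = n41 := rfl
theorem F55 : act 1 n41 = n25 := d6_1 D41 (iv D25) (iv F25)
def n42 : Q := act 3 n24
theorem D42 : act 3 n24 = n42 := rfl
theorem F56 : act 1 n42 = n26 := d5_1 D42 (iv D26) (iv F26)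
def n43 : Q := act 3 n25
theorem D43 : act 3 n25 = n43 := rfl
theorem F57 : act 0 n43 = n43 := d2_1 D43 (iv D43) F27
theorem F58 : act 2 n43 = n27 := d7_1 D43 (iv D27) (iv F28)
theorem F59 : act 4 n43 = n26 := d9_2 D25 D43 (iv D26) (iv D11) D10
def n44 : Q := act 0 n28
theorem D44 : act 0 n28 = n44 := rfl
theorem F60 : act 1 n44 = n33 := d0_2 D28 D44 (iv D33) (iv D17) (iv F14)
theorem F61 : act 2 n44 = n44 := d1_2 F33 D44 (iv D44)
def n45 : Q := act 3 n28
theorem D45 : act 3 n28 = n45 := rfl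
theorem F62 : act 1 n45 = n29 := d5_1 D45 (iv D29) D28
theorem F63 : act 2 n45 = n45 := d7_1 D45 (iv D45) F33
def n46 : Q := act 4 n28
theorem D46 : act 4 n28 = n46 := rfl
theorem F64 : act 1 n46 = n30 := d6_1 D46 (iv D30) D28
theorem F65 : act 2 n46 = n46 := d8_1 D46 (iv D46) F33
def n47 : Q := act 4 n29
theorem D47 : act 4 n29 = n47 := rfl
theorem F66 : act 0 n47 = n36 := d3_1 D47 (iv D36) (iv F34)
theorem F67 : act 2 n47 = n31 := d8_1 D47 (iv D31) (iv F35)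
def n48 : Q := act 3 n30
theorem D48 : act 3 n30 = n48 := rfl
theorem F68 : act 0 n48 = n37 := d2_1 D48 (iv D37) (iv F36)
theorem F69 : act 2 n48 = n32 := d7_1 D48 (iv D32) (iv F37)
def n49 : Q := act 3 n31
theorem D49 : act 3 n31 = n49 := rfl
theorem F70 : act 0 n49 = n38 := d2_1 D49 (iv D38) (iv F38)
theorem F71 : act 1 n49 = n49 := d5_1 D49 (iv D49) F39
theorem F72 : act 4 n49 = n32 := d9_2 D31 D49 (iv D32) (iv D16) D15
def n50 : Q := act 3 n33
theorem D50 : act 3 n33 = n50 := rfl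
theorem F73 : act 0 n50 = n34 := d2_1 D50 (iv D34) D33
theorem F74 : act 2 n50 = n39 := d7_1 D50 (iv D39) (iv F42)
def n51 : Q := act 4 n33
theorem D51 : act 4 n33 = n51 := rfl
theorem F75 : act 0 n51 = n35 := d3_1 D51 (iv D35) D33
theorem F76 : act 2 n51 = n40 := d8_1 D51 (iv D40) (iv F42)
def n52 : Q := act 4 n34
theorem D52 : act 4 n34 = n52 := rfl
theorem F77 : act 1 n52 = n36 := d6_1 D52 (iv D36) (iv F43)
theorem F78 : act 2 n52 = n41 := d8_1 D52 (iv D41) (iv F44)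
def n53 : Q := act 3 n35
theorem D53 : act 3 n35 = n53 := rfl
theorem F79 : act 1 n53 = n37 := d5_1 D53 (iv D37) (iv F45)
theorem F80 : act 2 n53 = n42 := d7_1 D53 (iv D42) (iv F46)
def n54 : Q := act 3 n36
theorem D54 : act 3 n36 = n54 := rfl
theorem F81 : act 2 n54 = n38 := d7_1 D54 (iv D38) (iv F47)
theorem F82 : act 4 n54 = n37 := d9_2 D36 D54 (iv D37) (iv D19) D18
def n55 : Q := act 4 n39
theorem D55 : act 4 n39 = n55 := rfl
theorem F83 : act 0 n55 = n41 := d3_1 D55 (iv D41) (iv F51)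
theorem F84 : act 1 n55 = n55 := d6_1 D55 (iv D55) F52
def n56 : Q := act 3 n40
theorem D56 : act 3 n40 = n56 := rfl
theorem F85 : act 0 n56 = n42 := d2_1 D56 (iv D42) (iv F53)
theorem F86 : act 1 n56 = n56 := d5_1 D56 (iv D56) F54
def n57 : Q := act 3 n41
theorem D57 : act 3 n41 = n57 := rfl
theorem F87 : act 1 n57 = n43 := d5_1 D57 (iv D43) (iv F55)
theorem F88 : act 4 n57 = n42 := d9_2 D41 D57 (iv D42) (iv D24) D23
def n58 : Q := act 3 n44
theorem D58 : act 3 n44 = n58 := rfl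
theorem F89 : act 0 n58 = n45 := d2_1 D58 (iv D45) D44
theorem F90 : act 1 n58 = n50 := d5_1 D58 (iv D50) (iv F60)
theorem F91 : act 2 n58 = n58 := d7_1 D58 (iv D58) F61
def n59 : Q := act 4 n44
theorem D59 : act 4 n44 = n59 := rfl
theorem F92 : act 0 n59 = n46 := d3_1 D59 (iv D46) D44
theorem F93 : act 1 n59 = n51 := d6_1 D59 (iv D51) (iv F60)
theorem F94 : act 2 n59 = n59 := d8_1 D59 (iv D59) F61
def n60 : Q := act 4 n45
theorem D60 : act 4 n45 = n60 := rfl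
theorem F95 : act 1 n60 = n47 := d6_1 D60 (iv D47) (iv F62)
theorem F96 : act 2 n60 = n60 := d8_1 D60 (iv D60) F63
def n61 : Q := act 3 n46
theorem D61 : act 3 n46 = n61 := rfl
theorem F97 : act 1 n61 = n48 := d5_1 D61 (iv D48) (iv F64)
theorem F98 : act 2 n61 = n61 := d7_1 D61 (iv D61) F65
def n62 : Q := act 3 n47
theorem D62 : act 3 n47 = n62 := rfl
theorem F99 : act 0 n62 = n54 := d2_1 D62 (iv D54) (iv F66)
theorem F100 : act 2 n62 = n49 := d7_1 D62 (iv D49) (iv F67)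
theorem F101 : act 4 n62 = n48 := d9_2 D47 D62 (iv D48) (iv D30) D29
def n63 : Q := act 4 n50
theorem D63 : act 4 n50 = n63 := rfl
theorem F102 : act 0 n63 = n52 := d3_1 D63 (iv D52) (iv F73)
theorem F103 : act 2 n63 = n55 := d8_1 D63 (iv D55) (iv F74)
def n64 : Q := act 3 n51
theorem D64 : act 3 n51 = n64 := rfl
theorem F104 : act 0 n64 = n53 := d2_1 D64 (iv D53) (iv F75)
theorem F105 : act 2 n64 = n56 := d7_1 D64 (iv D56) (iv F76)
def n65 : Q := act 3 n52
theorem D65 : act 3 n52 = n65 := rfl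
theorem F106 : act 1 n65 = n54 := d5_1 D65 (iv D54) (iv F77)
theorem F107 : act 2 n65 = n57 := d7_1 D65 (iv D57) (iv F78)
theorem F108 : act 4 n65 = n53 := d9_2 D52 D65 (iv D53) (iv D35) D34
def n66 : Q := act 3 n55
theorem D66 : act 3 n55 = n66 := rfl
theorem F109 : act 0 n66 = n57 := d2_1 D66 (iv D57) (iv F83)
theorem F110 : act 1 n66 = n66 := d5_1 D66 (iv D66) F84
theorem F111 : act 4 n66 = n56 := d9_2 D55 D66 (iv D56) (iv D40) D39
def n67 : Q := act 4 n58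
theorem D67 : act 4 n58 = n67 := rfl
theorem F112 : act 0 n67 = n60 := d3_1 D67 (iv D60) (iv F89)
theorem F113 : act 1 n67 = n63 := d6_1 D67 (iv D63) (iv F90)
theorem F114 : act 2 n67 = n67 := d8_1 D67 (iv D67) F91
def n68 : Q := act 3 n59
theorem D68 : act 3 n59 = n68 := rfl
theorem F115 : act 0 n68 = n61 := d2_1 D68 (iv D61) (iv F92)
theorem F116 : act 1 n68 = n64 := d5_1 D68 (iv D64) (iv F93)
theorem F117 : act 2 n68 = n68 := d7_1 D68 (iv D68) F94
def n69 : Q := act 3 n60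
theorem D69 : act 3 n60 = n69 := rfl
theorem F118 : act 1 n69 = n62 := d5_1 D69 (iv D62) (iv F95)
theorem F119 : act 2 n69 = n69 := d7_1 D69 (iv D69) F96
theorem F120 : act 4 n69 = n61 := d9_2 D60 D69 (iv D61) (iv D46) D45
def n70 : Q := act 3 n63
theorem D70 : act 3 n63 = n70 := rfl
theorem F121 : act 0 n70 = n65 := d2_1 D70 (iv D65) (iv F102)
theorem F122 : act 2 n70 = n66 := d7_1 D70 (iv D66) (iv F103)
theorem F123 : act 4 n70 = n64 := d9_2 D63 D70 (iv D64) (iv D51) D50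
def n71 : Q := act 3 n67
theorem D71 : act 3 n67 = n71 := rfl
theorem F124 : act 0 n71 = n69 := d2_1 D71 (iv D69) (iv F112)
theorem F125 : act 1 n71 = n70 := d5_1 D71 (iv D70) (iv F113)
theorem F126 : act 2 n71 = n71 := d7_1 D71 (iv D71) F114
theorem F127 : act 4 n71 = n68 := d9_2 D67 D71 (iv D68) (iv D59) D58

end Cfsg.Agent.Helper17.ONS2TC
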