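import Cfsg.Agent.Helper17.ONS2TC.Final

set_option autoImplicit false
set_option linter.all false
set_option maxRecDepth 100000

noncomputable section

namespace Cfsg.Agent.Helper17.ONS2TC

theorem N1 : nd 1 = n1 := ndS (p := 0) (l := 1) rfl N0 D1
theorem N2 : nd 2 = n2 := ndS (p := 0) (l := 2) rfl N0 D2
theorem N3 : nd 3 = n3 := ndS (p := 0) (l := 3) rfl N0 D3
theorem N4 : nd 4 = n4 := ndS (p := 0) (l := 4) rfl N0 D4
theorem N5 : nd 5 = n5 := ndS (p := 1) (l := 0) rfl N1 D5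
theorem N6 : nd 6 = n6 := ndS (p := 1) (l := 2) rfl N1 D6
theorem N7 : nd 7 = n7 := ndS (p := 1) (l := 3) rfl N1 D7
theorem N8 : nd 8 = n8 := ndS (p := 1) (l := 4) rfl N1 D8
theorem N9 : nd 9 = n9 := ndS (p := 2) (l := 1) rfl N2 D9
theorem N10 : nd 10 = n10 := ndS (p := 2) (l := 3) rfl N2 D10
theorem N11 : nd 11 = n11 := ndS (p := 2) (l := 4) rfl N2 D11
theorem N12 : nd 12 = n12 := ndS (p := 3) (l := 4) rfl N3 D12
theorem N13 : nd 13 = n13 := ndS (p := 4) (l := 3) rfl N4 D13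
theorem N14 : nd 14 = n14 := ndS (p := 5) (l := 2) rfl N5 D14
theorem N15 : nd 15 = n15 := ndS (p := 5) (l := 3) rfl N5 D15
theorem N16 : nd 16 = n16 := ndS (p := 5) (l := 4) rfl N5 D16
theorem N17 : nd 17 = n17 := ndS (p := 6) (l := 1) rfl N6 D17
theorem N18 : nd 18 = n18 := ndS (p := 6) (l := 3) rfl N6 D18
theorem N19 : nd 19 = n19 := ndS (p := 6) (l := 4) rfl N6 D19
theorem N20 : nd 20 = n20 := ndS (p := 7) (l := 4) rfl N7 D20
theorem N21 : nd 21 = n21 := ndS (p := 8) (l := 3) rfl N8 D21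
theorem N22 : nd 22 = n22 := ndS (p := 9) (l := 0) rfl N9 D22
theorem N23 : nd 23 = n23 := ndS (p := 9) (l := 3) rfl N9 D23
theorem N24 : nd 24 = n24 := ndS (p := 9) (l := 4) rfl N9 D24
theorem N25 : nd 25 = n25 := ndS (p := 10) (l := 4) rfl N10 D25
theorem N26 : nd 26 = n26 := ndS (p := 11) (l := 3) rfl N11 D26
theorem N27 : nd 27 = n27 := ndS (p := 12) (l := 3) rfl N12 D27
theorem N28 : nd 28 = n28 := ndS (p := 14) (l := 1) rfl N14 D28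
theorem N29 : nd 29 = n29 := ndS (p := 14) (l := 3) rfl N14 D29
theorem N30 : nd 30 = n30 := ndS (p := 14) (l := 4) rfl N14 D30
theorem N31 : nd 31 = n31 := ndS (p := 15) (l := 4) rfl N15 D31
theorem N32 : nd 32 = n32 := ndS (p := 16) (l := 3) rfl N16 D32
theorem N33 : nd 33 = n33 := ndS (p := 17) (l := 0) rfl N17 D33
theorem N34 : nd 34 = n34 := ndS (p := 17) (l := 3) rfl N17 D34
theorem N35 : nd 35 = n35 := ndS (p := 17) (l := 4) rfl N17 D35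
theorem N36 : nd 36 = n36 := ndS (p := 18) (l := 4) rfl N18 D36
theorem N37 : nd 37 = n37 := ndS (p := 19) (l := 3) rfl N19 D37
theorem N38 : nd 38 = n38 := ndS (p := 20) (l := 3) rfl N20 D38
theorem N39 : nd 39 = n39 := ndS (p := 22) (l := 3) rfl N22 D39
theorem N40 : nd 40 = n40 := ndS (p := 22) (l := 4) rfl N22 D40
theorem N41 : nd 41 = n41 := ndS (p := 23) (l := 4) rfl N23 D41
theorem N42 : nd 42 = n42 := ndS (p := 24) (l := 3) rfl N24 D42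
theorem N43 : nd 43 = n43 := ndS (p := 25) (l := 3) rfl N25 D43
theorem N44 : nd 44 = n44 := ndS (p := 28) (l := 0) rfl N28 D44
theorem N45 : nd 45 = n45 := ndS (p := 28) (l := 3) rfl N28 D45
theorem N46 : nd 46 = n46 := ndS (p := 28) (l := 4) rfl N28 D46
theorem N47 : nd 47 = n47 := ndS (p := 29) (l := 4) rfl N29 D47
theorem N48 : nd 48 = n48 := ndS (p := 30) (l := 3) rfl N30 D48
theorem N49 : nd 49 = n49 := ndS (p := 31) (l := 3) rfl N31 D49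
theorem N50 : nd 50 = n50 := ndS (p := 33) (l := 3) rfl N33 D50
theorem N51 : nd 51 = n51 := ndS (p := 33) (l := 4) rfl N33 D51
theorem N52 : nd 52 = n52 := ndS (p := 34) (l := 4) rfl N34 D52
theorem N53 : nd 53 = n53 := ndS (p := 35) (l := 3) rfl N35 D53
theorem N54 : nd 54 = n54 := ndS (p := 36) (l := 3) rfl N36 D54
theorem N55 : nd 55 = n55 := ndS (p := 39) (l := 4) rfl N39 D55
theorem N56 : nd 56 = n56 := ndS (p := 40) (l := 3) rfl N40 D56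
theorem N57 : nd 57 = n57 := ndS (p := 41) (l := 3) rfl N41 D57
theorem N58 : nd 58 = n58 := ndS (p := 44) (l := 3) rfl N44 D58
theorem N59 : nd 59 = n59 := ndS (p := 44) (l := 4) rfl N44 D59
theorem N60 : nd 60 = n60 := ndS (p := 45) (l := 4) rfl N45 D60
theorem N61 : nd 61 = n61 := ndS (p := 46) (l := 3) rfl N46 D61
theorem N62 : nd 62 = n62 := ndS (p := 47) (l := 3) rfl N47 D62
theorem N63 : nd 63 = n63 := ndS (p := 50) (l := 4) rfl N50 D63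
theorem N64 : nd 64 = n64 := ndS (p := 51) (l := 3) rfl N51 D64
theorem N65 : nd 65 = n65 := ndS (p := 52) (l := 3) rfl N52 D65
theorem N66 : nd 66 = n66 := ndS (p := 55) (l := 3) rfl N55 D66
theorem N67 : nd 67 = n67 := ndS (p := 58) (l := 4) rfl N58 D67
theorem N68 : nd 68 = n68 := ndS (p := 59) (l := 3) rfl N59 D68
theorem N69 : nd 69 = n69 := ndS (p := 60) (l := 3) rfl N60 D69
theorem N70 : nd 70 = n70 := ndS (p := 63) (l := 3) rfl N63 D70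
theorem N71 : nd 71 = n71 := ndS (p := 67) (l := 3) rfl N67 D71
theorem Q1 : ∀ i, i < 1 → P i := stepQ 0 Q0 (allL N0 (tt N0 F1) (tt N1 D1) (tt N2 D2) (tt N3 D3) (tt N4 D4))
theorem Q2 : ∀ i, i < 2 → P i := stepQ 1 Q1 (allL N1 (tt N5 D5) (tt N0 (iv D1)) (tt N6 D6) (tt N7 D7) (tt N8 D8))
theorem Q3 : ∀ i, i < 3 → P i := stepQ 2 Q2 (allL N2 (tt N2 F2) (tt N9 D9) (tt N0 (iv D2)) (tt N10 D10) (tt N11 D11))
theorem Q4 : ∀ i, i < 4 → P i := stepQ 3 Q3 (allL N3 (tt N3 F3) (tt N7 (iv F6)) (tt N10 (iv F9)) (tt N0 (iv D3)) (tt N12 D12))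
theorem Q5 : ∀ i, i < 5 → P i := stepQ 4 Q4 (allL N4 (tt N4 F4) (tt N8 (iv F7)) (tt N11 (iv F11)) (tt N13 D13) (tt N0 (iv D4)))
theorem Q6 : ∀ i, i < 6 → P i := stepQ 5 Q5 (allL N5 (tt N1 (iv D5)) (tt N5 F5) (tt N14 D14) (tt N15 D15) (tt N16 D16))
theorem Q7 : ∀ i, i < 7 → P i := stepQ 6 Q6 (allL N6 (tt N14 (iv F14)) (tt N17 D17) (tt N1 (iv D6)) (tt N18 D18) (tt N19 D19))
theorem Q8 : ∀ i, i < 8 → P i := stepQ 7 Q7 (allL N7 (tt N15 (iv F15)) (tt N3 F6) (tt N18 (iv F20)) (tt N1 (iv D7)) (tt N20 D20))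
theorem Q9 : ∀ i, i < 9 → P i := stepQ 8 Q8 (allL N8 (tt N16 (iv F17)) (tt N4 F7) (tt N19 (iv F21)) (tt N21 D21) (tt N1 (iv D8)))
theorem Q10 : ∀ i, i < 10 → P i := stepQ 9 Q9 (allL N9 (tt N22 D22) (tt N2 (iv D9)) (tt N17 (iv F19)) (tt N23 D23) (tt N24 D24))
theorem Q11 : ∀ i, i < 11 → P i := stepQ 10 Q10 (allL N10 (tt N10 F8) (tt N23 (iv F25)) (tt N3 F9) (tt N2 (iv D10)) (tt N25 D25))
theorem Q12 : ∀ i, i < 12 → P i := stepQ 11 Q11 (allL N11 (tt N11 F10) (tt N24 (iv F26)) (tt N4 F11) (tt N26 D26) (tt N2 (iv D11)))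
theorem Q13 : ∀ i, i < 13 → P i := stepQ 12 Q12 (allL N12 (tt N12 F12) (tt N20 (iv F22)) (tt N25 (iv F28)) (tt N27 D27) (tt N3 (iv D12)))
theorem Q14 : ∀ i, i < 14 → P i := stepQ 13 Q13 (allL N13 (tt N13 F13) (tt N21 (iv F23)) (tt N26 (iv F30)) (tt N4 (iv D13)) (tt N27 (iv F32)))
theorem Q15 : ∀ i, i < 15 → P i := stepQ 14 Q14 (allL N14 (tt N6 F14) (tt N28 D28) (tt N5 (iv D14)) (tt N29 D29) (tt N30 D30))
theorem Q16 : ∀ i, i < 16 → P i := stepQ 15 Q15 (allL N15 (tt N7 F15) (tt N15 F16) (tt N29 (iv F35)) (tt N5 (iv D15)) (tt N31 D31))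
theorem Q17 : ∀ i, i < 17 → P i := stepQ 16 Q16 (allL N16 (tt N8 F17) (tt N16 F18) (tt N30 (iv F37)) (tt N32 D32) (tt N5 (iv D16)))
theorem Q18 : ∀ i, i < 18 → P i := stepQ 17 Q17 (allL N17 (tt N33 D33) (tt N6 (iv D17)) (tt N9 F19) (tt N34 D34) (tt N35 D35))
theorem Q19 : ∀ i, i < 19 → P i := stepQ 18 Q18 (allL N18 (tt N29 (iv F34)) (tt N34 (iv F43)) (tt N7 F20) (tt N6 (iv D18)) (tt N36 D36))
theorem Q20 : ∀ i, i < 20 → P i := stepQ 19 Q19 (allL N19 (tt N30 (iv F36)) (tt N35 (iv F45)) (tt N8 F21) (tt N37 D37) (tt N6 (iv D19)))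
theorem Q21 : ∀ i, i < 21 → P i := stepQ 20 Q20 (allL N20 (tt N31 (iv F38)) (tt N12 F22) (tt N36 (iv F47)) (tt N38 D38) (tt N7 (iv D20)))
theorem Q22 : ∀ i, i < 22 → P i := stepQ 21 Q21 (allL N21 (tt N32 (iv F40)) (tt N13 F23) (tt N37 (iv F48)) (tt N8 (iv D21)) (tt N38 (iv F50)))
theorem Q23 : ∀ i, i < 23 → P i := stepQ 22 Q22 (allL N22 (tt N9 (iv D22)) (tt N22 F24) (tt N33 (iv F42)) (tt N39 D39) (tt N40 D40))
theorem Q24 : ∀ i, i < 24 → P i := stepQ 23 Q23 (allL N23 (tt N39 (iv F51)) (tt N10 F25) (tt N34 (iv F44)) (tt N9 (iv D23)) (tt N41 D41))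
theorem Q25 : ∀ i, i < 25 → P i := stepQ 24 Q24 (allL N24 (tt N40 (iv F53)) (tt N11 F26) (tt N35 (iv F46)) (tt N42 D42) (tt N9 (iv D24)))
theorem Q26 : ∀ i, i < 26 → P i := stepQ 25 Q25 (allL N25 (tt N25 F27) (tt N41 (iv F55)) (tt N12 F28) (tt N43 D43) (tt N10 (iv D25)))
theorem Q27 : ∀ i, i < 27 → P i := stepQ 26 Q26 (allL N26 (tt N26 F29) (tt N42 (iv F56)) (tt N13 F30) (tt N11 (iv D26)) (tt N43 (iv F59)))
theorem Q28 : ∀ i, i < 28 → P i := stepQ 27 Q27 (allL N27 (tt N27 F31) (tt N38 (iv F49)) (tt N43 (iv F58)) (tt N12 (iv D27)) (tt N13 F32))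
theorem Q29 : ∀ i, i < 29 → P i := stepQ 28 Q28 (allL N28 (tt N44 D44) (tt N14 (iv D28)) (tt N28 F33) (tt N45 D45) (tt N46 D46))
theorem Q30 : ∀ i, i < 30 → P i := stepQ 29 Q29 (allL N29 (tt N18 F34) (tt N45 (iv F62)) (tt N15 F35) (tt N14 (iv D29)) (tt N47 D47))
theorem Q31 : ∀ i, i < 31 → P i := stepQ 30 Q30 (allL N30 (tt N19 F36) (tt N46 (iv F64)) (tt N16 F37) (tt N48 D48) (tt N14 (iv D30)))
theorem Q32 : ∀ i, i < 32 → P i := stepQ 31 Q31 (allL N31 (tt N20 F38) (tt N31 F39) (tt N47 (iv F67)) (tt N49 D49) (tt N15 (iv D31)))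
theorem Q33 : ∀ i, i < 33 → P i := stepQ 32 Q32 (allL N32 (tt N21 F40) (tt N32 F41) (tt N48 (iv F69)) (tt N16 (iv D32)) (tt N49 (iv F72)))
theorem Q34 : ∀ i, i < 34 → P i := stepQ 33 Q33 (allL N33 (tt N17 (iv D33)) (tt N44 (iv F60)) (tt N22 F42) (tt N50 D50) (tt N51 D51))
theorem Q35 : ∀ i, i < 35 → P i := stepQ 34 Q34 (allL N34 (tt N50 (iv F73)) (tt N18 F43) (tt N23 F44) (tt N17 (iv D34)) (tt N52 D52))
theorem Q36 : ∀ i, i < 36 → P i := stepQ 35 Q35 (allL N35 (tt N51 (iv F75)) (tt N19 F45) (tt N24 F46) (tt N53 D53) (tt N17 (iv D35)))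
theorem Q37 : ∀ i, i < 37 → P i := stepQ 36 Q36 (allL N36 (tt N47 (iv F66)) (tt N52 (iv F77)) (tt N20 F47) (tt N54 D54) (tt N18 (iv D36)))
theorem Q38 : ∀ i, i < 38 → P i := stepQ 37 Q37 (allL N37 (tt N48 (iv F68)) (tt N53 (iv F79)) (tt N21 F48) (tt N19 (iv D37)) (tt N54 (iv F82)))
theorem Q39 : ∀ i, i < 39 → P i := stepQ 38 Q38 (allL N38 (tt N49 (iv F70)) (tt N27 F49) (tt N54 (iv F81)) (tt N20 (iv D38)) (tt N21 F50))
theorem Q40 : ∀ i, i < 40 → P i := stepQ 39 Q39 (allL N39 (tt N23 F51) (tt N39 F52) (tt N50 (iv F74)) (tt N22 (iv D39)) (tt N55 D55))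
theorem Q41 : ∀ i, i < 41 → P i := stepQ 40 Q40 (allL N40 (tt N24 F53) (tt N40 F54) (tt N51 (iv F76)) (tt N56 D56) (tt N22 (iv D40)))
theorem Q42 : ∀ i, i < 42 → P i := stepQ 41 Q41 (allL N41 (tt N55 (iv F83)) (tt N25 F55) (tt N52 (iv F78)) (tt N57 D57) (tt N23 (iv D41)))
theorem Q43 : ∀ i, i < 43 → P i := stepQ 42 Q42 (allL N42 (tt N56 (iv F85)) (tt N26 F56) (tt N53 (iv F80)) (tt N24 (iv D42)) (tt N57 (iv F88)))
theorem Q44 : ∀ i, i < 44 → P i := stepQ 43 Q43 (allL N43 (tt N43 F57) (tt N57 (iv F87)) (tt N27 F58) (tt N25 (iv D43)) (tt N26 F59))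
theorem Q45 : ∀ i, i < 45 → P i := stepQ 44 Q44 (allL N44 (tt N28 (iv D44)) (tt N33 F60) (tt N44 F61) (tt N58 D58) (tt N59 D59))
theorem Q46 : ∀ i, i < 46 → P i := stepQ 45 Q45 (allL N45 (tt N58 (iv F89)) (tt N29 F62) (tt N45 F63) (tt N28 (iv D45)) (tt N60 D60))
theorem Q47 : ∀ i, i < 47 → P i := stepQ 46 Q46 (allL N46 (tt N59 (iv F92)) (tt N30 F64) (tt N46 F65) (tt N61 D61) (tt N28 (iv D46)))
theorem Q48 : ∀ i, i < 48 → P i := stepQ 47 Q47 (allL N47 (tt N36 F66) (tt N60 (iv F95)) (tt N31 F67) (tt N62 D62) (tt N29 (iv D47)))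
theorem Q49 : ∀ i, i < 49 → P i := stepQ 48 Q48 (allL N48 (tt N37 F68) (tt N61 (iv F97)) (tt N32 F69) (tt N30 (iv D48)) (tt N62 (iv F101)))
theorem Q50 : ∀ i, i < 50 → P i := stepQ 49 Q49 (allL N49 (tt N38 F70) (tt N49 F71) (tt N62 (iv F100)) (tt N31 (iv D49)) (tt N32 F72))
theorem Q51 : ∀ i, i < 51 → P i := stepQ 50 Q50 (allL N50 (tt N34 F73) (tt N58 (iv F90)) (tt N39 F74) (tt N33 (iv D50)) (tt N63 D63))
theorem Q52 : ∀ i, i < 52 → P i := stepQ 51 Q51 (allL N51 (tt N35 F75) (tt N59 (iv F93)) (tt N40 F76) (tt N64 D64) (tt N33 (iv D51)))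
theorem Q53 : ∀ i, i < 53 → P i := stepQ 52 Q52 (allL N52 (tt N63 (iv F102)) (tt N36 F77) (tt N41 F78) (tt N65 D65) (tt N34 (iv D52)))
theorem Q54 : ∀ i, i < 54 → P i := stepQ 53 Q53 (allL N53 (tt N64 (iv F104)) (tt N37 F79) (tt N42 F80) (tt N35 (iv D53)) (tt N65 (iv F108)))
theorem Q55 : ∀ i, i < 55 → P i := stepQ 54 Q54 (allL N54 (tt N62 (iv F99)) (tt N65 (iv F106)) (tt N38 F81) (tt N36 (iv D54)) (tt N37 F82))
theorem Q56 : ∀ i, i < 56 → P i := stepQ 55 Q55 (allL N55 (tt N41 F83) (tt N55 F84) (tt N63 (iv F103)) (tt N66 D66) (tt N39 (iv D55)))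
theorem Q57 : ∀ i, i < 57 → P i := stepQ 56 Q56 (allL N56 (tt N42 F85) (tt N56 F86) (tt N64 (iv F105)) (tt N40 (iv D56)) (tt N66 (iv F111)))
theorem Q58 : ∀ i, i < 58 → P i := stepQ 57 Q57 (allL N57 (tt N66 (iv F109)) (tt N43 F87) (tt N65 (iv F107)) (tt N41 (iv D57)) (tt N42 F88))
theorem Q59 : ∀ i, i < 59 → P i := stepQ 58 Q58 (allL N58 (tt N45 F89) (tt N50 F90) (tt N58 F91) (tt N44 (iv D58)) (tt N67 D67))
theorem Q60 : ∀ i, i < 60 → P i := stepQ 59 Q59 (allL N59 (tt N46 F92) (tt N51 F93) (tt N59 F94) (tt N68 D68) (tt N44 (iv D59)))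
theorem Q61 : ∀ i, i < 61 → P i := stepQ 60 Q60 (allL N60 (tt N67 (iv F112)) (tt N47 F95) (tt N60 F96) (tt N69 D69) (tt N45 (iv D60)))
theorem Q62 : ∀ i, i < 62 → P i := stepQ 61 Q61 (allL N61 (tt N68 (iv F115)) (tt N48 F97) (tt N61 F98) (tt N46 (iv D61)) (tt N69 (iv F120)))
theorem Q63 : ∀ i, i < 63 → P i := stepQ 62 Q62 (allL N62 (tt N54 F99) (tt N69 (iv F118)) (tt N49 F100) (tt N47 (iv D62)) (tt N48 F101))
theorem Q64 : ∀ i, i < 64 → P i := stepQ 63 Q63 (allL N63 (tt N52 F102) (tt N67 (iv F113)) (tt N55 F103) (tt N70 D70) (tt N50 (iv D63)))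
theorem Q65 : ∀ i, i < 65 → P i := stepQ 64 Q64 (allL N64 (tt N53 F104) (tt N68 (iv F116)) (tt N56 F105) (tt N51 (iv D64)) (tt N70 (iv F123)))
theorem Q66 : ∀ i, i < 66 → P i := stepQ 65 Q65 (allL N65 (tt N70 (iv F121)) (tt N54 F106) (tt N57 F107) (tt N52 (iv D65)) (tt N53 F108))
theorem Q67 : ∀ i, i < 67 → P i := stepQ 66 Q66 (allL N66 (tt N57 F109) (tt N66 F110) (tt N70 (iv F122)) (tt N55 (iv D66)) (tt N56 F111))
theorem Q68 : ∀ i, i < 68 → P i := stepQ 67 Q67 (allL N67 (tt N60 F112) (tt N63 F113) (tt N67 F114) (tt N71 D71) (tt N58 (iv D67)))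
theorem Q69 : ∀ i, i < 69 → P i := stepQ 68 Q68 (allL N68 (tt N61 F115) (tt N64 F116) (tt N68 F117) (tt N59 (iv D68)) (tt N71 (iv F127)))
theorem Q70 : ∀ i, i < 70 → P i := stepQ 69 Q69 (allL N69 (tt N71 (iv F124)) (tt N62 F118) (tt N69 F119) (tt N60 (iv D69)) (tt N61 F120))
theorem Q71 : ∀ i, i < 71 → P i := stepQ 70 Q70 (allL N70 (tt N65 F121) (tt N71 (iv F125)) (tt N66 F122) (tt N63 (iv D70)) (tt N64 F123))
theorem Q72 : ∀ i, i < 72 → P i := stepQ 71 Q71 (allL N71 (tt N69 F124) (tt N70 F125) (tt N71 F126) (tt N67 (iv D71)) (tt N68 F127))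

theorem closedN : ∀ i, i < N → P i := Q72

end Cfsg.Agent.Helper17.ONS2TC
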